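import Groth.Agent.Lib.OrbitClosure.Scale
import Mathlib.LinearAlgebra.Eigenspace.Semisimple
import Mathlib.LinearAlgebra.Eigenspace.Triangularizable
import Mathlib.LinearAlgebra.Matrix.Charpoly.Univ
import Mathlib.LinearAlgebra.Matrix.Basis
import Mathlib.LinearAlgebra.Dimension.Finrank

/-!
# Closures of conjugation orbits
-/

universe u

namespace GrothLib.OrbitClosure

open Polynomial

variable {k : Type u} [Field k] [IsAlgClosed k] {n : ℕ}

theorem exists_diag (S : Matrix (Fin n) (Fin n) k) (hS : Module.End.IsSemisimple (Matrix.toLin' S)) :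
    ∃ (P : Matrix (Fin n) (Fin n) k) (d : Fin n → k), IsUnit P.det ∧ S = P * Matrix.diagonal d * P⁻¹ := by
  classical
  let s := Matrix.toLin' S
  let E : Set (Fin n → k) := {v | ∃ μ : k, s v = μ • v}
  have hspan : Submodule.span k E = ⊤ := by
    rw [eq_top_iff, ← hS.iSup_eigenspace_eq_top]
    exact iSup_le fun μ v hv => Submodule.subset_span ⟨μ, Module.End.mem_eigenspace_iff.1 hv⟩
  obtain ⟨b, hbE, hb, hli⟩ := exists_linearIndependent k E
  rw [hspan] at hb
  let B₀ : Module.Basis b k (Fin n → k) := Module.Basis.mk hli (by rw [Subtype.range_coe]; exact hb.ge)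
  let B := B₀.reindex (B₀.indexEquiv (Pi.basisFun k (Fin n)))
  choose d hd using fun i => hbE ((B₀.indexEquiv (Pi.basisFun k (Fin n))).symm i).2
  let P : Matrix (Fin n) (Fin n) k := (Pi.basisFun k (Fin n)).toMatrix B
  have hP : IsUnit P.det := by
    refine Matrix.isUnit_det_of_right_inverse (B := B.toMatrix (Pi.basisFun k (Fin n))) ?_
    exact Module.Basis.toMatrix_mul_toMatrix_flip _ _
  refine ⟨P, d, hP, ?_⟩
  have h : S * P = P * Matrix.diagonal d := by
    refine Matrix.ext fun a i => ?_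
    rw [Matrix.mul_diagonal]
    have hcol : (fun a => P a i) = B i := funext fun a => by simp [P, Module.Basis.toMatrix_apply]
    have h1 : S.mulVec (B i) = d i • B i := by
      have e : B i = ((B₀.indexEquiv (Pi.basisFun k (Fin n))).symm i : Fin n → k) := by
        simp [B, B₀, Module.Basis.reindex_apply]
      rw [e, ← Matrix.toLin'_apply]
      exact hd i
    have h2 := congrFun h1 a
    rw [← hcol] at h2
    rw [Pi.smul_apply, smul_eq_mul, mul_comm] at h2
    exact h2
  rw [← h, Matrix.mul_assoc, Matrix.mul_nonsing_inv _ hP, Matrix.mul_one]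

theorem exists_conj_of_charpoly_eq (S T : Matrix (Fin n) (Fin n) k)
    (hS : Module.End.IsSemisimple (Matrix.toLin' S)) (hT : Module.End.IsSemisimple (Matrix.toLin' T))
    (h : S.charpoly = T.charpoly) : ∃ A : Matrix (Fin n) (Fin n) k, IsUnit A.det ∧ A * S * A⁻¹ = T := by
  classical
  obtain ⟨P, d, hP, rfl⟩ := exists_diag S hS
  obtain ⟨Q, e, hQ, rfl⟩ := exists_diag T hT
  have hroots : ∀ (R : Matrix (Fin n) (Fin n) k) (f : Fin n → k), IsUnit R.det →
      (R * Matrix.diagonal f * R⁻¹).charpoly.roots = Finset.univ.val.map f := by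
    intro R f hR
    rw [Matrix.charpoly_mul_comm, ← Matrix.mul_assoc, Matrix.nonsing_inv_mul _ hR, Matrix.one_mul,
      Matrix.charpoly_diagonal]
    exact (congrArg Polynomial.roots (by rw [Multiset.map_map]; rfl)).trans (Polynomial.roots_multiset_prod_X_sub_C _)
  have hm : Finset.univ.val.map d = Finset.univ.val.map e := by
    rw [← hroots P d hP, ← hroots Q e hQ, h]
  have hfib : ∀ c, Nonempty ({i // d i = c} ≃ {i // e i = c}) := by
    intro c
    refine ⟨Fintype.equivOfCardEq ?_⟩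
    rw [Fintype.card_subtype, Fintype.card_subtype]
    have h1 := congrArg (Multiset.count c) hm
    rw [Multiset.count_map, Multiset.count_map] at h1
    simp only [eq_comm (a := c)] at h1
    exact h1
  let σ : Fin n ≃ Fin n := Equiv.ofFiberEquiv fun c => (hfib c).some
  have hσ : ∀ i, e (σ i) = d i := fun i => Equiv.ofFiberEquiv_map _ i
  let W : Matrix (Fin n) (Fin n) k := Matrix.of fun i j => if i = σ j then 1 else 0
  let W' : Matrix (Fin n) (Fin n) k := Matrix.of fun i j => if σ i = j then 1 else 0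
  have hW'W : W' * W = 1 := by
    refine Matrix.ext fun i l => ?_
    simp [W, W', Matrix.mul_apply, Matrix.one_apply]
  have hW : IsUnit W.det := Matrix.isUnit_det_of_left_inverse hW'W
  have hWd : W * Matrix.diagonal d = Matrix.diagonal e * W := by
    refine Matrix.ext fun i j => ?_
    rw [Matrix.mul_diagonal, Matrix.diagonal_mul]
    simp only [W, Matrix.of_apply]
    split_ifs with hij
    · rw [hij, hσ, one_mul, mul_one]
    · simp
  have hA : IsUnit (Q * W * P⁻¹).det := by
    rw [Matrix.det_mul, Matrix.det_mul]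
    exact (hQ.mul hW).mul (Matrix.isUnit_nonsing_inv_det _ hP)
  refine ⟨Q * W * P⁻¹, hA, ?_⟩
  have hc : Q * W * P⁻¹ * (P * Matrix.diagonal d * P⁻¹) = Q * Matrix.diagonal e * Q⁻¹ * (Q * W * P⁻¹) := by
    calc Q * W * P⁻¹ * (P * Matrix.diagonal d * P⁻¹) = Q * W * ((P⁻¹ * P) * Matrix.diagonal d * P⁻¹) := by
          simp only [Matrix.mul_assoc]
      _ = Q * (W * Matrix.diagonal d) * P⁻¹ := by
          rw [Matrix.nonsing_inv_mul _ hP, Matrix.one_mul]; simp only [Matrix.mul_assoc]
      _ = Q * Matrix.diagonal e * ((Q⁻¹ * Q) * W * P⁻¹) := by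
          rw [hWd, Matrix.nonsing_inv_mul _ hQ, Matrix.one_mul]; simp only [Matrix.mul_assoc]
      _ = _ := by simp only [Matrix.mul_assoc]
  rw [hc, Matrix.mul_assoc, Matrix.mul_nonsing_inv _ hA, Matrix.mul_one]

omit [IsAlgClosed k] in
theorem charpoly_eq_of_mem_closure (B C : Matrix (Fin n) (Fin n) k)
    (hC : ∀ F : MvPolynomial (Fin n × Fin n) k,
      (∀ A : Matrix (Fin n) (Fin n) k, IsUnit A.det →
        MvPolynomial.eval (fun p => (A * B * A⁻¹) p.1 p.2) F = 0) →
      MvPolynomial.eval (fun p => C p.1 p.2) F = 0) : C.charpoly = B.charpoly := by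
  refine Polynomial.ext fun i => ?_
  have he : ∀ M : Matrix (Fin n) (Fin n) k,
      MvPolynomial.eval (fun p => M p.1 p.2) ((Matrix.charpoly.univ k (Fin n)).coeff i) = M.charpoly.coeff i :=
    fun M => Matrix.charpoly.univ_coeff_eval₂Hom (Fin n) (RingHom.id k) (fun p => M p.1 p.2) i
  have h := hC ((Matrix.charpoly.univ k (Fin n)).coeff i - MvPolynomial.C (B.charpoly.coeff i)) fun A hA => by
    rw [map_sub, he, MvPolynomial.eval_C, Matrix.charpoly_mul_comm, ← Matrix.mul_assoc,
      Matrix.nonsing_inv_mul _ hA, Matrix.one_mul, sub_self]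
  rwa [map_sub, he, MvPolynomial.eval_C, sub_eq_zero] at h

theorem closures_meet_iff (B₁ S₁ N₁ B₂ S₂ N₂ : Matrix (Fin n) (Fin n) k)
    (hS₁ : Module.End.IsSemisimple (Matrix.toLin' S₁)) (hN₁ : IsNilpotent N₁) (hc₁ : Commute S₁ N₁)
    (hB₁ : B₁ = S₁ + N₁)
    (hS₂ : Module.End.IsSemisimple (Matrix.toLin' S₂)) (hN₂ : IsNilpotent N₂) (hc₂ : Commute S₂ N₂)
    (hB₂ : B₂ = S₂ + N₂) :
    (∃ C : Matrix (Fin n) (Fin n) k,
        (∀ F : MvPolynomial (Fin n × Fin n) k,
          (∀ A : Matrix (Fin n) (Fin n) k, IsUnit A.det →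
            MvPolynomial.eval (fun p => (A * B₁ * A⁻¹) p.1 p.2) F = 0) →
          MvPolynomial.eval (fun p => C p.1 p.2) F = 0) ∧
        (∀ F : MvPolynomial (Fin n × Fin n) k,
          (∀ A : Matrix (Fin n) (Fin n) k, IsUnit A.det →
            MvPolynomial.eval (fun p => (A * B₂ * A⁻¹) p.1 p.2) F = 0) →
          MvPolynomial.eval (fun p => C p.1 p.2) F = 0)) ↔
      ∃ A : Matrix (Fin n) (Fin n) k, IsUnit A.det ∧ A * S₁ * A⁻¹ = S₂ := by
  have key : ∀ (B S N : Matrix (Fin n) (Fin n) k), Module.End.IsSemisimple (Matrix.toLin' S) → IsNilpotent N →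
      Commute S N → B = S + N → B.charpoly = S.charpoly := fun B S N hS hN hc hB =>
    (charpoly_eq_of_mem_closure B S fun F hF => eval_semisimple_eq_zero B S N hS hN hc hB F hF).symm
  constructor
  · rintro ⟨C, h₁, h₂⟩
    refine exists_conj_of_charpoly_eq S₁ S₂ hS₁ hS₂ ?_
    rw [← key B₁ S₁ N₁ hS₁ hN₁ hc₁ hB₁, ← key B₂ S₂ N₂ hS₂ hN₂ hc₂ hB₂,
      ← charpoly_eq_of_mem_closure B₁ C h₁, ← charpoly_eq_of_mem_closure B₂ C h₂]
  · rintro ⟨A, hA, hAS⟩
    refine ⟨S₂, fun F hF => ?_, fun F hF => eval_semisimple_eq_zero B₂ S₂ N₂ hS₂ hN₂ hc₂ hB₂ F hF⟩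
    let conj : Fin n × Fin n → MvPolynomial (Fin n × Fin n) k := fun p =>
      (A.map MvPolynomial.C * Matrix.mvPolynomialX (Fin n) (Fin n) k * A⁻¹.map MvPolynomial.C :
        Matrix (Fin n) (Fin n) (MvPolynomial (Fin n × Fin n) k)) p.1 p.2
    have he : ∀ M : Matrix (Fin n) (Fin n) k,
        MvPolynomial.eval (fun p => M p.1 p.2) (MvPolynomial.aeval conj F) =
          MvPolynomial.eval (fun p => (A * M * A⁻¹) p.1 p.2) F := by
      intro M
      let ev := MvPolynomial.eval (fun p : Fin n × Fin n => M p.1 p.2)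
      rw [MvPolynomial.aeval_def, MvPolynomial.eval₂_comp_left ev]
      have h1 : ev.comp (algebraMap k (MvPolynomial (Fin n × Fin n) k)) = RingHom.id k :=
        RingHom.ext fun _ => MvPolynomial.eval_C _
      rw [h1]
      change MvPolynomial.eval₂ _ _ F = MvPolynomial.eval₂ _ _ F
      congr 1
      funext p
      change (ev.mapMatrix (A.map MvPolynomial.C * Matrix.mvPolynomialX (Fin n) (Fin n) k * A⁻¹.map MvPolynomial.C)) p.1 p.2 = _
      simp [ev, Matrix.mul_apply, Matrix.mvPolynomialX_apply]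
    rw [← hAS, ← he]
    refine eval_semisimple_eq_zero B₁ S₁ N₁ hS₁ hN₁ hc₁ hB₁ _ fun A₁ hA₁ => ?_
    rw [he]
    have h := hF (A * A₁) (by rw [Matrix.det_mul]; exact hA.mul hA₁)
    rw [Matrix.mul_inv_rev] at h
    simpa [Matrix.mul_assoc] using h

end GrothLib.OrbitClosure
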