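import Mathlib.RingTheory.SimpleModule.Basic
import Mathlib.RingTheory.Artinian.Module
import Mathlib.LinearAlgebra.Projection
import Mathlib.LinearAlgebra.Semisimple
import Mathlib.LinearAlgebra.Matrix.ToLin
import Mathlib.LinearAlgebra.Matrix.NonsingularInverse
import Mathlib.Algebra.MvPolynomial.Equiv
import Mathlib.Algebra.Polynomial.Roots
import Mathlib.LinearAlgebra.Matrix.Charpoly.Univ

/-!
# The semisimple part lies in the closure of the conjugation orbit
-/

universe u v

namespace GrothLib.OrbitClosure

section Module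

variable {R : Type u} [CommRing R]

/-- A nilpotent endomorphism of a semisimple module is conjugate to its unit multiples. -/
theorem exists_aut (t : Rˣ) : ∀ (m : ℕ) (M : Type v) [AddCommGroup M] [Module R M] [IsSemisimpleModule R M]
    [IsArtinian R M] (f : M →ₗ[R] M), f ^ m = 0 →
    ∃ A : M ≃ₗ[R] M, ∀ x, A (f x) = (t : R) • f (A x)
  | 0, M, _, _, _, _, f, h => ⟨LinearEquiv.refl R M, fun x => by
      have hz : ∀ y : M, y = 0 := fun y => by
        have := LinearMap.congr_fun h y
        simpa using this
      exact (hz _).trans (hz _).symm⟩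
  | m + 1, M, _, _, _, _, f, h => by
    let M' := LinearMap.range f
    let f' : M' →ₗ[R] M' := f.restrict fun x _ => LinearMap.mem_range_self f x
    have hf' : f' ^ m = 0 := by
      refine LinearMap.ext fun x => Subtype.ext ?_
      rw [Module.End.pow_restrict, LinearMap.restrict_apply]
      obtain ⟨y, hy⟩ := x.2
      change (f ^ m) (x : M) = 0
      rw [← hy, ← Module.End.mul_apply, ← pow_succ, h, LinearMap.zero_apply]
    obtain ⟨A', hA'⟩ := exists_aut t m M' f' hf'
    let K := LinearMap.ker f
    obtain ⟨C, hC⟩ := exists_isCompl (M' ⊔ K)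
    obtain ⟨Z, hZ⟩ := exists_isCompl (M' ⊓ K)
    let K' := Z ⊓ K
    have hsupK : (M' ⊓ K) ⊔ K' = K := by
      rw [← sup_inf_assoc_of_le Z (inf_le_right : M' ⊓ K ≤ K), hZ.sup_eq_top, top_inf_eq]
    have hdisj : Disjoint M' K' := by
      rw [disjoint_iff, show M' ⊓ K' = M' ⊓ K ⊓ Z by simp only [K']; ac_rfl, hZ.inf_eq_bot]
    have hsup : M' ⊔ K' = M' ⊔ K := by
      rw [← hsupK, ← sup_assoc, sup_inf_self]
    have h1 : IsCompl M' (K' ⊔ C) :=
      ⟨hdisj.disjoint_sup_right_of_disjoint_sup_left (hsup ▸ hC.disjoint), by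
        rw [codisjoint_iff, ← sup_assoc, hsup, hC.sup_eq_top]⟩
    have h2 : IsCompl K' (M' ⊔ C) :=
      ⟨hdisj.symm.disjoint_sup_right_of_disjoint_sup_left (by rw [sup_comm, hsup]; exact hC.disjoint), by
        rw [codisjoint_iff, ← sup_assoc, sup_comm K', hsup, hC.sup_eq_top]⟩
    let π := M'.projectionOnto _ h1
    let ρ := K'.projection _ h2
    have hρ : ∀ x, f (ρ x) = 0 := fun x => (Submodule.mem_inf.1 (Submodule.projection_apply_mem h2 x)).2
    obtain ⟨s, hs⟩ := IsSemisimpleModule.lifting_property f.rangeRestrict f.surjective_rangeRestrict LinearMap.id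
    have hs' : ∀ y : M', f (s y) = y := fun y => congrArg Subtype.val (LinearMap.congr_fun hs y)
    let δ : M →ₗ[R] M := LinearMap.id - M'.subtype ∘ₗ π
    let A₀ : M →ₗ[R] M := M'.subtype ∘ₗ A'.toLinearMap ∘ₗ π + ρ +
      s ∘ₗ ((↑t⁻¹ : R) • A'.toLinearMap) ∘ₗ f.rangeRestrict ∘ₗ δ
    have hcomm' : ∀ y : M', f (A' y) = (↑t⁻¹ : R) • (A' (f' y) : M) := fun y => by
      rw [hA' y, Submodule.coe_smul, smul_smul, Units.inv_mul, one_smul]
      rfl
    have hfA : ∀ x, f (A₀ x) = (↑t⁻¹ : R) • (A' (f.rangeRestrict x) : M) := by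
      intro x
      have e : f.rangeRestrict x = f' (π x) + f.rangeRestrict ((δ) x) := by
        refine Subtype.ext ?_
        change f x = f (π x : M) + f (x - (π x : M))
        rw [← map_add, add_sub_cancel]
      change f ((A' (π x) : M) + ρ x + s _) = _
      rw [map_add, map_add, hρ, add_zero, hs', hcomm', e, map_add, Submodule.coe_add, smul_add]
      rfl
    have hinj : Function.Injective A₀ := by
      rw [injective_iff_map_eq_zero]
      intro x hx
      have hxK : x ∈ K := by
        have h3 : A' (f.rangeRestrict x) = 0 := by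
          have h4 : (↑t⁻¹ : R) • A' (f.rangeRestrict x) = 0 := Subtype.ext (by rw [Submodule.coe_smul, ← hfA, hx, map_zero]; rfl)
          have := congrArg (fun y => (t : R) • y) h4
          simpa [smul_smul] using this
        rw [map_eq_zero_iff _ A'.injective] at h3
        exact congrArg Subtype.val h3
      obtain ⟨a, ha, b, hb, rfl⟩ := Submodule.mem_sup.1 (hsupK.symm ▸ hxK : x ∈ (M' ⊓ K) ⊔ K')
      have hπ : π (a + b) = ⟨a, ha.1⟩ := by
        rw [map_add, Submodule.projectionOnto_apply_of_mem_left h1 ha.1,
          Submodule.projectionOnto_apply_of_mem_right h1 (Submodule.mem_sup_left hb), add_zero]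
      have hρ' : ρ (a + b) = b := by
        rw [map_add, Submodule.projection_apply_of_mem_right h2 (Submodule.mem_sup_left ha.1),
          Submodule.projection_apply_of_mem_left h2 hb, zero_add]
      have hlast : f.rangeRestrict ((δ) (a + b)) = 0 := by
        refine Subtype.ext ?_
        change f (a + b - (π (a + b) : M)) = 0
        rw [hπ, map_sub, map_add, ha.2, hb.2]
        simp
      change (A' (π (a + b)) : M) + ρ (a + b) + s ((↑t⁻¹ : R) • A' (f.rangeRestrict
        ((δ) (a + b)))) = 0 at hx
      rw [hlast, map_zero, smul_zero, map_zero, add_zero, hπ, hρ'] at hx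
      have hb0 : b = 0 := by
        refine Submodule.disjoint_def.1 hdisj b ?_ hb
        rw [eq_neg_of_add_eq_zero_right hx]
        exact neg_mem (A' _).2
      subst hb0
      rw [add_zero] at hx ⊢
      have h5 : A' ⟨a, ha.1⟩ = 0 := Subtype.ext hx
      rw [map_eq_zero_iff _ A'.injective] at h5
      exact congrArg Subtype.val h5
    refine ⟨LinearEquiv.ofBijective A₀ (IsArtinian.bijective_of_injective_endomorphism A₀ hinj), fun x => ?_⟩
    change A₀ (f x) = (t : R) • f (A₀ x)
    rw [hfA, smul_smul, Units.mul_inv, one_smul]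
    have hπf : π (f x) = f.rangeRestrict x := Submodule.projectionOnto_apply_of_mem_left h1 (LinearMap.mem_range_self f x)
    change (A' (π (f x)) : M) + ρ (f x) + s ((↑t⁻¹ : R) • A' (f.rangeRestrict (f x - (π (f x) : M)))) = _
    rw [show ρ (f x) = 0 from Submodule.projection_apply_of_mem_right h2 (Submodule.mem_sup_left (LinearMap.mem_range_self f x)),
      hπf]
    simp

end Module

section Matrix

open Polynomial

variable {k : Type u} [Field k] {n : ℕ}

theorem exists_conj_scale (S N : Matrix (Fin n) (Fin n) k) (hS : Module.End.IsSemisimple (Matrix.toLin' S))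
    (hN : IsNilpotent N) (hSN : Commute S N) (t : kˣ) :
    ∃ A : Matrix (Fin n) (Fin n) k, IsUnit A.det ∧ A * (S + N) * A⁻¹ = S + (t : k) • N := by
  let s := Matrix.toLin' S
  let M := Module.AEval' s
  haveI : IsSemisimpleModule k[X] M := hS
  haveI : Module.Finite k M := Module.Finite.equiv (Module.AEval'.of s)
  haveI : IsArtinian k[X] M := isArtinian_of_tower k inferInstance
  let f₀ : M →ₗ[k] M := (Module.AEval'.of s).toLinearMap ∘ₗ Matrix.toLin' N ∘ₗ (Module.AEval'.of s).symm.toLinearMap
  have hX : ∀ m : M, f₀ ((X : k[X]) • m) = (X : k[X]) • f₀ m := by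
    intro m
    obtain ⟨v, rfl⟩ := (Module.AEval'.of s).surjective m
    rw [Module.AEval'.X_smul_of]
    simp only [f₀, LinearMap.comp_apply, LinearEquiv.coe_coe, LinearEquiv.symm_apply_apply]
    rw [Module.AEval'.X_smul_of]
    simp only [s, Matrix.toLin'_apply, Matrix.mulVec_mulVec, hSN.eq]
  let f : M →ₗ[k[X]] M :=
    { f₀ with
      map_smul' := fun p m => by
        induction p using Polynomial.induction_on' with
        | add p q hp hq => simp only [add_smul, RingHom.id_apply] at *; rw [← hp, ← hq]; exact map_add f₀ _ _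
        | monomial i a =>
          change f₀ (monomial i a • m) = monomial i a • f₀ m
          rw [← C_mul_X_pow_eq_monomial, mul_smul, mul_smul, ← algebraMap_eq, algebraMap_smul, algebraMap_smul,
            map_smul]
          congr 1
          induction i with
          | zero => simp
          | succ i ih => rw [pow_succ', mul_smul, mul_smul, hX, ih] }
  obtain ⟨m, hm⟩ := hN
  have hfm : f ^ m = 0 := by
    refine LinearMap.ext fun x => ?_
    obtain ⟨v, rfl⟩ := (Module.AEval'.of s).surjective x
    have : ∀ j, (f ^ j) (Module.AEval'.of s v) = Module.AEval'.of s ((N ^ j).mulVec v) := by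
      intro j
      induction j with
      | zero => simp
      | succ j ih =>
        rw [pow_succ', Module.End.mul_apply, ih, pow_succ', ← Matrix.mulVec_mulVec]
        change f₀ _ = _
        simp [f₀]
    rw [this, hm, Matrix.zero_mulVec, map_zero, LinearMap.zero_apply]
  obtain ⟨Φ, hΦ⟩ := exists_aut (Units.map (C : k →+* k[X]).toMonoidHom t) m M f hfm
  let a : (Fin n → k) ≃ₗ[k] (Fin n → k) :=
    ((Module.AEval'.of s).trans (Φ.restrictScalars k)).trans (Module.AEval'.of s).symm
  let A := LinearMap.toMatrix' a.toLinearMap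
  have hAinv : IsUnit A.det := by
    rw [LinearMap.det_toMatrix']
    exact LinearEquiv.isUnit_det' a
  refine ⟨A, hAinv, ?_⟩
  have hA : A * (S + N) = (S + (t : k) • N) * A := by
    refine Matrix.toLin'.injective ?_
    rw [Matrix.toLin'_mul, Matrix.toLin'_mul, Matrix.toLin'_toMatrix', map_add, map_add, map_smul]
    refine LinearMap.ext fun v => ?_
    simp only [LinearMap.comp_apply, LinearMap.add_apply, LinearMap.smul_apply, LinearEquiv.coe_coe, map_add]
    have h1 : a (s v) = s (a v) := by
      refine (Module.AEval'.of s).injective ?_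
      simp only [a, LinearEquiv.trans_apply, LinearEquiv.apply_symm_apply, LinearEquiv.restrictScalars_apply]
      rw [← Module.AEval'.X_smul_of, map_smul, ← Module.AEval'.X_smul_of]
      simp
    have h2 : a (Matrix.toLin' N v) = (t : k) • Matrix.toLin' N (a v) := by
      refine (Module.AEval'.of s).injective ?_
      simp only [a, map_smul, LinearEquiv.trans_apply, LinearEquiv.apply_symm_apply, LinearEquiv.restrictScalars_apply]
      have h3 := hΦ (Module.AEval'.of s v)
      have e1 : f (Module.AEval'.of s v) = Module.AEval'.of s (Matrix.toLin' N v) := by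
        change f₀ _ = _
        simp [f₀]
      rw [e1] at h3
      rw [h3]
      change algebraMap k k[X] (t : k) • _ = _
      rw [algebraMap_smul]
      rfl
    rw [h1, h2]
  rw [hA, Matrix.mul_assoc, Matrix.mul_nonsing_inv _ hAinv, Matrix.mul_one]

theorem eval_semisimple_eq_zero [Infinite k] (B S N : Matrix (Fin n) (Fin n) k)
    (hS : Module.End.IsSemisimple (Matrix.toLin' S))
    (hN : IsNilpotent N) (hSN : Commute S N) (hB : B = S + N)
    (F : MvPolynomial (Fin n × Fin n) k)
    (hF : ∀ A : Matrix (Fin n) (Fin n) k, IsUnit A.det →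
      MvPolynomial.eval (fun p => (A * B * A⁻¹) p.1 p.2) F = 0) :
    MvPolynomial.eval (fun p => S p.1 p.2) F = 0 := by
  let G : k[X] := MvPolynomial.eval₂ C (fun p => C (S p.1 p.2) + X * C (N p.1 p.2)) F
  have hG : ∀ t : k, G.eval t = MvPolynomial.eval (fun p => (S + t • N) p.1 p.2) F := by
    intro t
    rw [← Polynomial.coe_evalRingHom, MvPolynomial.eval₂_comp_left]
    have h1 : (evalRingHom t).comp (C : k →+* k[X]) = RingHom.id k := RingHom.ext fun _ => eval_C
    rw [h1]
    change MvPolynomial.eval₂ _ _ F = MvPolynomial.eval₂ _ _ F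
    congr 1
    funext p
    simp only [Function.comp_apply, coe_evalRingHom, eval_add, eval_mul, eval_C, eval_X, Matrix.add_apply, Matrix.smul_apply, smul_eq_mul]
  have hroots : ∀ t : k, t ≠ 0 → G.eval t = 0 := by
    intro t ht
    obtain ⟨A, hA, hAB⟩ := exists_conj_scale S N hS hN hSN (Units.mk0 t ht)
    rw [hG, ← hB] at *
    have := hF A hA
    rwa [hAB] at this
  have hG0 : G = 0 := by
    refine Polynomial.eq_zero_of_infinite_isRoot G (Set.Infinite.mono (s := {(0 : k)}ᶜ) (fun t ht => hroots t ht) ?_)
    exact (Set.finite_singleton (0 : k)).infinite_compl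
  have := hG 0
  rw [hG0, eval_zero, zero_smul, add_zero] at this
  exact this.symm

end Matrix

end GrothLib.OrbitClosure
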